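import Groth.Agent.EtDepth.K973.AlgA1
import Groth.Agent.EtDepth.K973.WayRefl
import Groth.Agent.Models.K381.DisjModel
import Groth.Agent.Etbase.EtGlue
import Groth.Agent.Sga4B.EtaleDomain
import Groth.Agent.UnramA.PowerSeriesNormal

/-!
# Reflexivity of `Λ[U]`: reduction to integral `U`

* `isIso_desc`: `Λ[W]` is the direct sum of the `Λ[U_i]` if `W` is the disjoint union of the `U_i`;
* `refl_LM`: if the local rings of the étale `X`-schemes are domains, `Λ[U]` is reflexive for every affine `U` as soon
  as it is so for the integral ones;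
* `isDomain_stalk`: the hypothesis for the spectra of power series rings.
-/

set_option autoImplicit false

universe u

open CategoryTheory CategoryTheory.Limits AlgebraicGeometry Opposite

attribute [local instance 5000] CategoryTheory.Abelian.toPreadditive
  CategoryTheory.Preadditive.preadditiveHasZeroMorphisms

namespace K198.AlgDec

attribute [local instance] HasDerivedCategory.standard
attribute [local instance] Abelian.hasFiniteBiproducts
open scoped Groth.Agent.Sga4h.ModInst
open Groth.Agent Groth.Agent.Sga4h Groth.Agent.Sga4h.Refl Groth.Agent.Etbase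
open Groth.Agent.Etcore.LFree Groth.Agent.Etcore.LVan K973.AlgA1

variable {Λ : Type (u + 1)} [CommRing Λ] {X : Scheme.{u}}

/-- `Λ[W]` is the direct sum of the `Λ[U_i]` if `W` is the disjoint union of the `U_i`. -/
theorem isIso_desc {ι : Type} [Finite ι] {W : X.Etale} (U : ι → X.Etale) (f : ∀ i, U i ⟶ W) [∀ i, Mono (f i)]
    (hf : ⋃ i, Set.range (f i).left = Set.univ)
    (hd : ∀ i j, i ≠ j → Disjoint (Set.range (f i).left) (Set.range (f j).left)) :
    IsIso (biproduct.desc fun i => Etcore.LFree.map (Λ := Λ) (f i)) := by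
  apply isIso_of_coyoneda_map_bijective
  intro F
  have key : ∀ (x : LM Λ W ⟶ F) (i : ι), biproduct.ι (fun i => LM Λ (U i)) i ≫
      (biproduct.desc fun i => Etcore.LFree.map (Λ := Λ) (f i)) ≫ x =
        desc (Etcore.LVan.res F (f i) (homEquiv W F x)) := by
    intro x i
    rw [biproduct.ι_desc_assoc]
    apply (homEquiv (U i) F).injective
    rw [homEquiv_map]
    exact (desc_gen _).symm
  constructor
  · intro x y hxy
    apply (homEquiv W F).injective
    refine (EtGlue.existsUnique_glue_disjoint (ab F) f hf hd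
      (fun i => Etcore.LVan.res F (f i) (homEquiv W F y))).unique (fun i => ?_) (fun i => rfl)
    change Etcore.LVan.res F (f i) (homEquiv W F x) = Etcore.LVan.res F (f i) (homEquiv W F y)
    have h1 := (key x i).symm.trans ((congrArg (biproduct.ι (fun i => LM Λ (U i)) i ≫ ·) hxy).trans (key y i))
    have h2 := congrArg (homEquiv (U i) F) h1
    exact (desc_gen _).symm.trans (h2.trans (desc_gen _))
  · intro β
    obtain ⟨t, ht, -⟩ := EtGlue.existsUnique_glue_disjoint (ab F) f hf hd
      (fun i => homEquiv (U i) F (biproduct.ι (fun i => LM Λ (U i)) i ≫ β))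
    have ht' : ∀ i, Etcore.LVan.res F (f i) t = homEquiv (U i) F (biproduct.ι (fun i => LM Λ (U i)) i ≫ β) := ht
    refine ⟨desc t, biproduct.hom_ext' _ _ fun i => ?_⟩
    have h1 : homEquiv W F (desc t) = t := desc_gen t
    have h2 := key (desc t) i
    rw [h1] at h2
    refine h2.trans ?_
    apply (homEquiv (U i) F).injective
    exact (desc_gen _).trans (ht' i)

/-- Reduction to integral schemes. -/
theorem refl_LM [IsNoetherian X] (hX : ∀ (U : X.Etale) (x : U.left), IsDomain (U.left.presheaf.stalk x))
    (D : DualData (EtModD.tensorBi Λ X))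
    (h : ∀ U : X.Etale, IsAffine U.left → IsIntegral U.left →
      D.Refl ((CochainComplex.singleFunctor (EtModW.Mod Λ X) 0).obj (LM Λ U)))
    (U : X.Etale) (hU : IsAffine U.left) :
    D.Refl ((CochainComplex.singleFunctor (EtModW.Mod Λ X) 0).obj (LM Λ U)) := by
  let g : U.left ⟶ X := U.hom
  have e1 : AlgebraicGeometry.Etale g := U.prop
  have e2 : IsLocallyNoetherian U.left := LocallyOfFiniteType.isLocallyNoetherian g
  have e3 : IsNoetherian U.left := {}
  obtain ⟨ι, hι, Z, -, hZ1, hZ2, hZ3, hZ4⟩ := K381.DisjModel.exists_decomp U.left (hX U)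
  obtain ⟨n, ⟨e⟩⟩ := Finite.exists_equiv_fin ι
  let V : Fin n → X.Etale := fun i => EtGlue.opn U (Z (e.symm i))
  let f : ∀ i, V i ⟶ U := fun i => EtGlue.opnι U (Z (e.symm i))
  have h1 : ∀ i, Mono (f i) := fun i => inferInstance
  have hr : ∀ i, Set.range (f i).left = (Z (e.symm i) : Set U.left) := fun i => EtGlue.range_opnι U _
  have h2 : ⋃ i, Set.range (f i).left = Set.univ := by
    rw [Set.eq_univ_iff_forall]
    intro x
    have hx : x ∈ ⨆ i, Z i := hZ3 ▸ trivial
    obtain ⟨i, hi⟩ := TopologicalSpace.Opens.mem_iSup.1 hx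
    refine Set.mem_iUnion.2 ⟨e i, ?_⟩
    rw [hr, Equiv.symm_apply_apply]
    exact hi
  have h3 : ∀ i j, i ≠ j → Disjoint (Set.range (f i).left) (Set.range (f j).left) := by
    intro i j hij
    rw [hr, hr]
    have h4 := hZ4 (e.symm i) (e.symm j) (fun h => hij (e.symm.injective h))
    rw [Set.disjoint_left]
    intro x hx hx'
    exact (Disjoint.le_bot h4 : _) ⟨hx, hx'⟩
  have h5 := isIso_desc (Λ := Λ) V f h2 h3
  refine refl_single_iso D (asIso (biproduct.desc fun i => Etcore.LFree.map (Λ := Λ) (f i))) ?_
  refine K973.WayRefl.refl_biproduct D V fun i => ?_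
  have i1 : IsClosedImmersion (Z (e.symm i)).ι := hZ2 _
  have i2 : IsAffine (V i).left := by
    change IsAffine (Z (e.symm i)).toScheme
    exact isAffine_of_isAffineHom (Z (e.symm i)).ι
  exact h (V i) i2 (hZ1 _)

/-- The étale schemes over the spectrum of a power series ring. -/
theorem isDomain_stalk {M : ℕ} {K : Type u} [Field K] (U : (Etdl.H434.Defs.SP M K).Etale) (x : U.left) :
    IsDomain (U.left.presheaf.stalk x) := by
  let g : U.left ⟶ Etdl.H434.Defs.SP M K := U.hom
  have e1 : AlgebraicGeometry.Etale g := U.prop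
  obtain ⟨h1, h2⟩ := UnramA.PowerSeriesNormal.isIntegrallyClosed_mvPowerSeries K M
  have h1' : IsDomain (CommRingCat.of (MvPowerSeries (Fin M) K)) := h1
  have h2' : IsIntegrallyClosed (CommRingCat.of (MvPowerSeries (Fin M) K)) := h2
  have h3 : IsDomain ((Etdl.H434.Defs.SP M K).presheaf.stalk (g x)) := inferInstance
  have h4 : IsIntegrallyClosed ((Etdl.H434.Defs.SP M K).presheaf.stalk (g x)) := by
    let : Algebra (MvPowerSeries (Fin M) K) ((Etdl.H434.Defs.SP M K).presheaf.stalk (g x)) :=
      StructureSheaf.stalkAlgebra (CommRingCat.of (MvPowerSeries (Fin M) K)) (g x)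
    have : IsLocalization.AtPrime ((Etdl.H434.Defs.SP M K).presheaf.stalk (g x)) (g x).asIdeal :=
      StructureSheaf.IsLocalization.to_stalk (CommRingCat.of (MvPowerSeries (Fin M) K)) (g x)
    exact isIntegrallyClosed_of_isLocalization _ (g x).asIdeal.primeCompl (Ideal.primeCompl_le_nonZeroDivisors _)
  exact Sga4B.EtaleDomain.isDomain_stalk_of_etale g x h3 h4

end K198.AlgDec
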