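import Mathlib.RingTheory.Unramified.Finite
import Mathlib.RingTheory.Etale.Basic
import Mathlib.RingTheory.EssentialFiniteness
import Mathlib.RingTheory.Localization.Integral
import Mathlib.RingTheory.Algebraic.Integral
import Mathlib.RingTheory.Localization.FractionRing
import Mathlib.RingTheory.Flat.TorsionFree
import Mathlib.RingTheory.Smooth.Flat

/-!
# Étale algebras over domains: generic finiteness
-/

set_option autoImplicit false
universe u

namespace K198.AlgGen

open Polynomial

variable (A C : Type u) [CommRing A] [IsDomain A] [CommRing C] [IsDomain C] [Algebra A C] [Algebra.Etale A C]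

theorem injective : Function.Injective (algebraMap A C) := by
  have h1 : Module.Flat A C := inferInstance
  have h2 : Module.IsTorsionFree A C := inferInstance
  exact FaithfulSMul.algebraMap_injective A C

theorem isAlgebraic : Algebra.IsAlgebraic A C := by
  have hinj := injective A C
  have hf : FaithfulSMul A C := (faithfulSMul_iff_algebraMap_injective A C).2 hinj
  let K := FractionRing A
  let L := FractionRing C
  let _ : Algebra K L := FractionRing.liftAlgebra A L
  have : IsScalarTower A K L := FractionRing.isScalarTower_liftAlgebra A L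
  have h1 : Algebra.FormallyUnramified C L := Algebra.FormallyUnramified.of_isLocalization (nonZeroDivisors C)
  have h2 : Algebra.FormallyUnramified A L := Algebra.FormallyUnramified.comp A C L
  have h3 : Algebra.FormallyUnramified K L := Algebra.FormallyUnramified.of_restrictScalars A K L
  have h4 : Algebra.EssFiniteType C L := Algebra.EssFiniteType.of_isLocalization L (nonZeroDivisors C)
  have h5 : Algebra.EssFiniteType A L := Algebra.EssFiniteType.comp A C L
  have h6 : Algebra.EssFiniteType K L := Algebra.EssFiniteType.of_comp A K L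
  have h7 : Module.Finite K L := Algebra.FormallyUnramified.finite_of_free K L
  have h8 : Algebra.IsAlgebraic K L := inferInstance
  have h9 : Algebra.IsAlgebraic A L := (IsFractionRing.comap_isAlgebraic_iff (A := A) (K := K) (C := L)).2 h8
  exact Algebra.IsAlgebraic.tower_bot_of_injective (R := A) (S := C) (A := L) (IsFractionRing.injective C L)

/-- Finitely many generators up to powers of `g`. -/
theorem exists_gens : ∃ (g : A) (_ : g ≠ 0) (t : Finset C), ∀ c : C, ∃ k : ℕ, g ^ k • c ∈ Submodule.span A (t : Set C) := by
  classical
  have := isAlgebraic A C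
  obtain ⟨s, hs⟩ := (Algebra.FiniteType.out : (⊤ : Subalgebra A C).FG)
  obtain ⟨g, hg, hint⟩ := Algebra.IsAlgebraic.exists_integral_multiples A s
  let B := Algebra.adjoin A ((fun z : C => g • z) '' (s : Set C))
  have hB : (Subalgebra.toSubmodule B).FG := by
    refine fg_adjoin_of_finite (s.finite_toSet.image _) ?_
    rintro _ ⟨z, hz, rfl⟩
    exact hint z hz
  obtain ⟨t, ht⟩ := hB
  refine ⟨g, hg, t, fun c => ?_⟩
  rw [ht]
  change ∃ k : ℕ, g ^ k • c ∈ B
  have hc : c ∈ Algebra.adjoin A (s : Set C) := by rw [hs]; trivial
  induction hc using Algebra.adjoin_induction with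
  | mem x hx => exact ⟨1, by rw [pow_one]; exact Algebra.subset_adjoin ⟨x, hx, rfl⟩⟩
  | algebraMap r => exact ⟨0, by rw [pow_zero, one_smul]; exact B.algebraMap_mem r⟩
  | add x y _ _ hx hy =>
    obtain ⟨k, hk⟩ := hx
    obtain ⟨l, hl⟩ := hy
    refine ⟨k + l, ?_⟩
    rw [smul_add]
    refine B.add_mem ?_ ?_
    · rw [pow_add, mul_comm, mul_smul]
      exact B.smul_mem hk _
    · rw [pow_add, mul_smul]
      exact B.smul_mem hl _
  | mul x y _ _ hx hy =>
    obtain ⟨k, hk⟩ := hx
    obtain ⟨l, hl⟩ := hy
    refine ⟨k + l, ?_⟩
    rw [pow_add, mul_smul_mul_comm]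
    exact B.mul_mem hk hl

end K198.AlgGen
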