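import Groth.Agent.EtDepth.K198.AlgGen
import Groth.Agent.EtDepth.K198.AlgPush
import Groth.Agent.Etdl.H437.ModelSq
import Groth.Agent.Etdl.H436.Krasner
import Mathlib.RingTheory.Etale.StandardEtale
import Mathlib.RingTheory.RingHom.Etale

/-!
# Algebraization of étale algebras over power series rings

`A = K[[x_0, …, x_M]]`, `C` a domain étale over `A`: for some `w ≠ 0` the algebra `C[1/w]` is the base change along a
regular homomorphism `ρ : K[[x_1, …, x_M]][X] → A` of an étale algebra, and `A / (w)` is the base change of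
`K[[x_1, …, x_M]][X] / (W)`, `W` monic (`exists_square_etale`).
-/

set_option autoImplicit false
universe u

namespace K198.AlgSq

open Polynomial IsLocalRing CategoryTheory CategoryTheory.Limits

/-- The derivative of a polynomial near `P` is invertible after inverting `w`. -/
theorem isUnit_derivative {B : Type u} [CommRing B] [IsNoetherianRing B] [IsLocalRing B]
    [IsAdicComplete (maximalIdeal B) B] (w : B) (hw : w ∈ maximalIdeal B)
    (P Q S a b : B[X]) (hQ : Q.Monic) (hab : a * P + b * derivative P = C w) (hPQ : Q = P + C (w ^ 3) * S)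
    {D : Type u} [CommRing D] (ψ : AdjoinRoot Q →+* D) (hw' : IsUnit (ψ (algebraMap B _ w))) :
    IsUnit (ψ (AdjoinRoot.mk Q (derivative Q))) := by
  have hf : Module.Finite B (AdjoinRoot Q) := hQ.finite_adjoinRoot
  have hh := Groth.Agent.Etdl.H436.Krasner.henselianRing_of_finite (B := B) (AdjoinRoot Q)
  have h1 : a * Q + b * derivative Q = C w * (1 + C (w ^ 2) * (a * S + b * derivative S)) := by
    rw [hPQ, derivative_add, derivative_C_mul]
    have h2 : a * (P + C (w ^ 3) * S) + b * (derivative P + C (w ^ 3) * derivative S) =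
        (a * P + b * derivative P) + C (w ^ 3) * (a * S + b * derivative S) := by ring
    rw [h2, hab, map_pow, map_pow]
    ring
  have h3 := congrArg (AdjoinRoot.mk Q) h1
  rw [map_add, map_mul, AdjoinRoot.mk_self, mul_zero, zero_add, map_mul, map_mul, map_add, map_one, map_mul] at h3
  have hwm : (AdjoinRoot.mk Q (C w)) ∈ Ideal.jacobson (⊥ : Ideal (AdjoinRoot Q)) :=
    hh.jac (Ideal.mem_map_of_mem (algebraMap B (AdjoinRoot Q)) hw)
  have h4 : IsUnit (1 + AdjoinRoot.mk Q (C (w ^ 2)) * AdjoinRoot.mk Q (a * S + b * derivative S)) := by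
    have h5 := (Ideal.mem_jacobson_bot.1 hwm)
      (AdjoinRoot.mk Q (C w) * AdjoinRoot.mk Q (a * S + b * derivative S))
    have h6 : 1 + AdjoinRoot.mk Q (C (w ^ 2)) * AdjoinRoot.mk Q (a * S + b * derivative S) =
        AdjoinRoot.mk Q (C w) * (AdjoinRoot.mk Q (C w) * AdjoinRoot.mk Q (a * S + b * derivative S)) + 1 := by
      rw [map_pow, map_pow]
      ring
    rw [h6]
    exact h5
  have h7 := congrArg ψ h3
  rw [map_mul, map_mul ψ] at h7
  have h8 : IsUnit (ψ (AdjoinRoot.mk Q b) * ψ (AdjoinRoot.mk Q (derivative Q))) := by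
    rw [h7]
    exact hw'.mul (h4.map ψ)
  exact isUnit_of_mul_isUnit_right h8

/-- **Algebraization of étale algebras.** -/
theorem exists_square_etale {M : ℕ} {K : Type u} [Field K] [CharZero K] (C : Type u) [CommRing C] [IsDomain C]
    [Algebra (MvPowerSeries (Fin (M + 1)) K) C] [Algebra.Etale (MvPowerSeries (Fin (M + 1)) K) C] :
    ∃ (w : MvPowerSeries (Fin (M + 1)) K) (_ : w ≠ 0)
      (ρ : Polynomial (MvPowerSeries (Fin M) K) →+* MvPowerSeries (Fin (M + 1)) K)
      (_ : @CAlg.IsRegularHom _ _ _ _ ρ.toAlgebra) (W : Polynomial (MvPowerSeries (Fin M) K)) (_ : W.Monic)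
      (_ : Associated w (ρ W)) (h : Ideal.span {W} ≤ (Ideal.span {w}).comap ρ)
      (_ : Function.Bijective (Ideal.quotientMap (Ideal.span {w}) ρ h)) (T : Type u) (_ : CommRing T)
      (τ : Polynomial (MvPowerSeries (Fin M) K) →+* T) (_ : τ.Etale)
      (φ : T →+* Localization.Away (algebraMap (MvPowerSeries (Fin (M + 1)) K) C w)),
      IsPushout (CommRingCat.ofHom ρ) (CommRingCat.ofHom τ)
        (CommRingCat.ofHom (algebraMap (MvPowerSeries (Fin (M + 1)) K)
          (Localization.Away (algebraMap (MvPowerSeries (Fin (M + 1)) K) C w)))) (CommRingCat.ofHom φ) := by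
  classical
  let A := MvPowerSeries (Fin (M + 1)) K
  let R := MvPowerSeries (Fin M) K
  obtain ⟨hAdom, hAic⟩ := Groth.Agent.UnramA.PowerSeriesNormal.isIntegrallyClosed_mvPowerSeries K (M + 1)
  have hRcomp := Groth.Agent.CalgB.PowField.isAdicComplete K M
  have hAcomp := Groth.Agent.CalgB.PowField.isAdicComplete K (M + 1)
  have hA0 : CharZero A := charZero_of_injective_algebraMap (algebraMap K A).injective
  have hinj : Function.Injective (algebraMap A C) := AlgGen.injective A C
  have : FaithfulSMul A C := (faithfulSMul_iff_algebraMap_injective A C).2 hinj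
  have halg : Algebra.IsAlgebraic A C := AlgGen.isAlgebraic A C
  obtain ⟨g, hg, t, ht⟩ := AlgGen.exists_gens A C
  have hX : (MvPowerSeries.X 0 : A) ≠ 0 := fun h0 => by
    have h1 := congrArg (MvPowerSeries.coeff (Finsupp.single 0 1)) h0
    rw [MvPowerSeries.coeff_index_single_self_X, map_zero] at h1
    exact one_ne_zero h1
  have hinf : Infinite K := Infinite.of_injective ((↑) : ℕ → K) Nat.cast_injective
  obtain ⟨θ, a, b, w, hθ, hw0, hgw, hab, hk⟩ :=
    Groth.Agent.Etdl.H437.ModelGen.exists_smul_mem_adjoin t g hg ht (MvPowerSeries.X 0 : A) hX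
  have hwm : w ∈ maximalIdeal A := by
    have h1 : (MvPowerSeries.X 0 : A) ∈ maximalIdeal A := by
      rw [mem_maximalIdeal, mem_nonunits_iff, MvPowerSeries.isUnit_iff_constantCoeff,
        MvPowerSeries.constantCoeff_X]
      exact not_isUnit_zero
    exact Ideal.mem_of_dvd _ ((dvd_mul_left _ _).trans hgw) h1
  obtain ⟨e, he⟩ := Groth.Agent.Etdl.H436.CoordChange.exists_coordChange w hw0
  obtain ⟨W, u, H⟩ := (e w).exists_isWeierstrassFactorization he
  obtain ⟨P₀, S, hP₀, hdeg, hP⟩ := Groth.Agent.Etdl.H436.Approx.exists_monic_approx (e w) he 3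
    ((minpoly A θ).map (e : A →+* PowerSeries R)) ((minpoly.monic hθ).map _)
  let ρ : R[X] →+* A := (e.symm : PowerSeries R →+* A).comp (algebraMap R[X] (PowerSeries R))
  have hesymm : ((e.symm : PowerSeries R →+* A)).comp (e : A →+* PowerSeries R) = RingHom.id A := by
    ext1 x
    exact e.symm_apply_apply x
  have hρP : P₀.map ρ = minpoly A θ + Polynomial.C (w ^ 3) * S.map (e.symm : PowerSeries R →+* A) := by
    have h1 := congrArg (Polynomial.map (e.symm : PowerSeries R →+* A)) hP
    rw [Polynomial.map_map, Polynomial.map_add, Polynomial.map_map, hesymm, Polynomial.map_id, Polynomial.map_mul,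
      Polynomial.map_C, map_pow] at h1
    rw [h1]
    congr 3
    exact congrArg (· ^ 3) (e.symm_apply_apply w)
  have hdeg' : (P₀.map ρ).natDegree = (minpoly A θ).natDegree := by
    rw [hP₀.natDegree_map, hdeg, (minpoly.monic hθ).natDegree_map]
  obtain ⟨κ⟩ := Groth.Agent.Etdl.H436.Krasner.nonempty_algEquiv w hwm (minpoly A θ) (P₀.map ρ)
    (S.map (e.symm : PowerSeries R →+* A)) a b (minpoly.monic hθ) (hP₀.map _) hdeg' hab hρP
  let D := Localization.Away (algebraMap A C w)
  obtain ⟨ψ, hψ1, hψ2⟩ := Groth.Agent.Etdl.H437.ModelSq.isLocalization_away θ hθ w hw0 hk D _ κ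
  have hψ1' : ψ.comp (algebraMap A _) = algebraMap A D := by
    rw [hψ1]
    exact (IsScalarTower.algebraMap_eq A C D).symm
  -- `w` and `ρ W` are associated
  have hass : Associated w (ρ W) := by
    have h1 : w = ρ W * e.symm u := by
      have h2 := congrArg e.symm H.eq_mul
      rw [e.symm_apply_apply, map_mul] at h2
      rw [h2]
      exact congrArg (· * e.symm u) (congrArg e.symm (Groth.Agent.Etdl.H437.PolyPow.algebraMap_eq_coe R W).symm)
    have h3 : IsUnit (e.symm u) := H.isUnit.map e.symm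
    rw [h1]
    exact associated_mul_unit_left _ _ h3
  have hψ3 : @IsLocalization.Away _ _ (algebraMap A (AdjoinRoot (P₀.map ρ)) (ρ W)) D _ ψ.toAlgebra := by
    let _ := ψ.toAlgebra
    exact IsLocalization.Away.of_associated (hass.map (algebraMap A (AdjoinRoot (P₀.map ρ))))
  -- the standard étale algebra
  let G : R[X][X] := Polynomial.C W * derivative P₀
  let E : StandardEtalePair R[X] := ⟨P₀, hP₀, G, Polynomial.C W, 0, 1, by
    rw [pow_one, mul_zero, add_zero, mul_comm]⟩
  let T := Localization.Away (AdjoinRoot.mk P₀ G)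
  have hT : Algebra.Etale R[X] T := Algebra.Etale.of_equiv E.equivAwayAdjoinRoot
  have hdu : IsUnit (ψ (AdjoinRoot.mk (P₀.map ρ) (derivative (P₀.map ρ)))) := by
    refine isUnit_derivative w hwm (minpoly A θ) (P₀.map ρ) _ a b (hP₀.map _) hab hρP ψ ?_
    let _ := ψ.toAlgebra
    exact IsLocalization.Away.algebraMap_isUnit (S := D) (algebraMap A (AdjoinRoot (P₀.map ρ)) w)
  have hjG : AdjoinRoot.map ρ P₀ (P₀.map ρ) dvd_rfl (AdjoinRoot.mk P₀ G) =
      algebraMap A (AdjoinRoot (P₀.map ρ)) (ρ W) * AdjoinRoot.mk (P₀.map ρ) (derivative (P₀.map ρ)) := by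
    have h1 : ∀ p : R[X][X], AdjoinRoot.map ρ P₀ (P₀.map ρ) dvd_rfl (AdjoinRoot.mk P₀ p) =
        AdjoinRoot.mk (P₀.map ρ) (p.map ρ) := by
      intro p
      have h2 : (AdjoinRoot.map ρ P₀ (P₀.map ρ) dvd_rfl).comp (AdjoinRoot.mk P₀) =
          (AdjoinRoot.mk (P₀.map ρ)).comp (Polynomial.mapRingHom ρ) := by
        refine Polynomial.ringHom_ext (fun r => ?_) ?_
        · rw [RingHom.comp_apply, RingHom.comp_apply, Polynomial.coe_mapRingHom, Polynomial.map_C]
          exact AdjoinRoot.map_of ρ P₀ _ _ r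
        · rw [RingHom.comp_apply, RingHom.comp_apply, Polynomial.coe_mapRingHom, Polynomial.map_X]
          exact AdjoinRoot.lift_root _
      exact DFunLike.congr_fun h2 p
    rw [h1, Polynomial.map_mul, Polynomial.map_C, derivative_map, map_mul]
    rfl
  have hψ4 : @IsLocalization.Away _ _ (AdjoinRoot.map ρ P₀ (P₀.map ρ) dvd_rfl (AdjoinRoot.mk P₀ G)) D _
      ψ.toAlgebra := by
    let _ := ψ.toAlgebra
    rw [hjG]
    exact AlgPush.away_mul _ _ hdu
  obtain ⟨φ, hφ⟩ := AlgPush.isPushout_adjoinRoot_away ρ P₀ (AdjoinRoot.mk P₀ G) T D ψ hψ1' hψ4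
  have hle : Ideal.span {W} ≤ (Ideal.span {w}).comap ρ := by
    rw [Ideal.span_singleton_le_iff_mem, Ideal.mem_comap, Ideal.mem_span_singleton]
    exact hass.dvd
  refine ⟨w, hw0, ρ, ?_, W, H.isDistinguishedAt.monic, hass, hle, ?_, T, inferInstance, algebraMap R[X] T,
    RingHom.etale_algebraMap.2 hT, φ, hφ⟩
  · let _ : Algebra R[X] A := ρ.toAlgebra
    refine Groth.Agent.Ega4C.GeomCompReg.isRegularHom_of_algEquiv R[X] (PowerSeries R) A
      { e.symm.toRingEquiv with commutes' := fun r => rfl }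
      (Groth.Agent.Etdl.H437.PolyPow.isRegularHom_mvPowerSeries_powerSeries K M)
  · let e2 : (PowerSeries R ⧸ Ideal.span {e w}) ≃+* (A ⧸ Ideal.span {w}) :=
      Ideal.quotientEquiv _ _ e.symm.toRingEquiv (by
        rw [Ideal.map_span, Set.image_singleton]
        congr 2
        exact (e.symm_apply_apply w).symm)
    have h1 : ⇑(Ideal.quotientMap (Ideal.span {w}) ρ hle) = e2 ∘ H.algEquivQuotient := by
      funext x
      obtain ⟨p, rfl⟩ := Ideal.Quotient.mk_surjective x
      rw [Ideal.quotientMap_mk, Function.comp_apply]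
      have h2 : H.algEquivQuotient (Ideal.Quotient.mk _ p) = Ideal.Quotient.mk _ (p : PowerSeries R) := by
        rw [PowerSeries.IsWeierstrassFactorizationAt.algEquivQuotient_apply]
        simp
      rw [h2]
      change Ideal.Quotient.mk _ (e.symm (algebraMap R[X] (PowerSeries R) p)) =
        Ideal.Quotient.mk _ (e.symm (p : PowerSeries R))
      rw [Groth.Agent.Etdl.H437.PolyPow.algebraMap_eq_coe]
    rw [h1]
    exact e2.bijective.comp H.algEquivQuotient.bijective

end K198.AlgSq
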