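import Groth.Agent.EtDepth.K584.DepthHull
import Groth.Agent.Sga4B.ClosedSupp

/-!
# Depth and hulls: the converse

`σ : Spec A ⟶ X` a strict localization at `x`, `β : A → B` a regular local homomorphism with `𝔪_A B = 𝔪_B`:

* `isZero_locCoh`: the local cohomology sheaves at the closed point are determined by the cohomology with supports;
* `depthAtGE`: the depth at `x` is at least the depth of the inverse image to `Spec B` along the closed point.
-/

set_option autoImplicit false
universe u
open CategoryTheory CategoryTheory.Limits AlgebraicGeometry Opposite IsLocalRing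

namespace K198.CvHull

open Groth.Agent Groth.Agent.Etcore Groth.Agent.EtpbcB.BCU Groth.Agent.Etrest.StrictLoc

/-- Local cohomology at the closed point. -/
theorem isZero_locCoh {B : Type u} [CommRing B] [IsLocalRing B] {Ω : Type u} [Field Ω] [IsSepClosed Ω]
    (ξ : Spec (CommRingCat.of Ω) ⟶ Spec (CommRingCat.of B)) [IsClosedImmersion ξ] {U : Scheme.{u}}
    (j : U ⟶ Spec (CommRingCat.of B)) [IsOpenImmersion j] [EtCoh.BCCont j]
    (hd : IsCompl (Set.range ξ) (Set.range j)) (F : EtCoh.Ab (Spec (CommRingCat.of B))) (q : ℕ)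
    (h : IsZero ((EtDual.HY j q).obj F)) : IsZero ((EtDual.locCoh j q).obj F) := by
  refine Stalks.isZero_of_stalks _ fun x => ?_
  by_cases hx : x ∈ Set.range j
  · obtain ⟨y, rfl⟩ := hx
    obtain ⟨Ω', _, _, η, hη⟩ := Stalks.exists_geom y
    refine ⟨Ω', inferInstance, inferInstance, η ≫ j, ?_, ?_⟩
    · rw [Scheme.Hom.comp_apply, hη]
    · exact ((EtCoh.stalk η).map_isZero (Sga4B.ClosedSupp.isZero_pull_locCoh j q F)).of_iso
        ((Groth.Agent.Etbase.StalkPull.stalkPullIso j η).app _)
  · have hx' : x ∈ Set.range ξ := by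
      by_contra h'
      have h1 := hd.codisjoint.top_le (Set.mem_univ x)
      rcases h1 with h1 | h1
      · exact h' h1
      · exact hx h1
    obtain ⟨y, rfl⟩ := hx'
    refine ⟨Ω, inferInstance, inferInstance, ξ, congrArg ξ (Subsingleton.elim _ _), ?_⟩
    exact h.of_iso ((Groth.Agent.Sga5.H856.HYStalk.HYIsoStalk j ξ hd q).app F).symm

/-- **Depth from the hull.** -/
theorem depthAtGE {X : Scheme.{u}} (qX : X ⟶ Spec (CommRingCat.of (ULift.{u} ℚ))) {A B : Type u} [CommRing A]
    [IsLocalRing A] [IsNoetherianRing A] [CommRing B] [IsLocalRing B] [IsNoetherianRing B]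
    {σ : Spec (CommRingCat.of A) ⟶ X} (hσ : IsStrictLoc σ) (x : X) (hx : σ (closedPoint A) = x)
    (β : A →+* B) (hβ : @CAlg.IsRegularHom A _ B _ β.toAlgebra) (hβl : IsLocalHom β)
    (hm : (maximalIdeal A).map β = maximalIdeal B) (F : EtCoh.Ab X) (hF : EtCoh.IsTorsion F) (n : ℕ)
    (hn : ∀ q : ℕ, q < n → IsZero ((EtDual.locCoh (FEt.puncturedSpec B).ι q).obj
      ((EtCoh.pull (Spec.map (CommRingCat.ofHom β) ≫ σ)).obj F))) :
    EtDepth.DepthAtGE X F x n := by
  rw [Groth.Agent.Sga2lef.H134.DepthAt.depthAtGE_iff_of_isStrictLoc hσ x hx n]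
  have hQ : CharZero (ULift.{u} ℚ) := K555.ULiftQ.charZero
  let _ : Algebra A B := β.toAlgebra
  have hfl : Module.Flat A B := hβ.1
  have hlo : IsLocalHom (algebraMap A B) := hβl
  have hff : Module.FaithfullyFlat A B := Module.FaithfullyFlat.of_flat_of_isLocalHom
  intro q hq
  let g : Spec (CommRingCat.of B) ⟶ Spec (CommRingCat.of A) := Spec.map (CommRingCat.ofHom β)
  obtain ⟨g', sq⟩ : ∃ g' : (FEt.puncturedSpec B).toScheme ⟶ (FEt.puncturedSpec A).toScheme,
      IsPullback g' (FEt.puncturedSpec B).ι (FEt.puncturedSpec A).ι g := by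
    have h0 : (maximalIdeal A).map (algebraMap A B) = maximalIdeal B := hm
    have h1 := Groth.Agent.Sga2lef.H101.CplDepth.preimage_punctured h0
    change IsLocalRing B at *
    rw [← h1]
    exact ⟨_, isPullback_morphismRestrict _ _⟩
  have hNSA : TopologicalSpace.NoetherianSpace (Spec (CommRingCat.of A)) :=
    inferInstanceAs (TopologicalSpace.NoetherianSpace (PrimeSpectrum A))
  have hQA : QuasiCompact (FEt.puncturedSpec A).ι := by
    have : TopologicalSpace.NoetherianSpace (FEt.puncturedSpec A).toScheme :=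
      (FEt.puncturedSpec A).ι.isOpenEmbedding.isInducing.noetherianSpace
    exact quasiCompact_of_noetherianSpace_source _
  have hbc : BCMor (Spec (CommRingCat.of (ULift.{u} ℚ))) g :=
    (K555.RegMor.ubc_of_isRegularHom β hβ (σ ≫ qX)).bcMor
  obtain ⟨e⟩ := Groth.Agent.Sga2lef.H101.LocCohBC.nonempty_pull_locCoh_iso hbc sq
    ((EtCoh.pull σ).obj F) (K555.RegBC.isTorsionInvertibleOn_of_isTorsion (ULift.{u} ℚ)
      (Groth.Agent.Etcore.Torsion.isTorsion_pull σ F hF)) q
  have hz : IsZero ((EtCoh.pull g).obj ((EtDual.locCoh (FEt.puncturedSpec A).ι q).obj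
      ((EtCoh.pull σ).obj F))) :=
    ((hn q hq).of_iso ((EtDual.locCoh _ q).mapIso
      ((Groth.Agent.EtpbcA.PullFLC.pullComp g σ).app F))).of_iso e
  exact Etcore.PullJoint.isZero_of_pull (fun _ : Unit => g)
    (fun x => ⟨(), PrimeSpectrum.comap_surjective_of_faithfullyFlat (A := A) (B := B) x⟩) _ (fun _ => hz)

end K198.CvHull
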