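import Groth.Agent.EtDepth.K584.PtSP
import Groth.Agent.EtDepth.K198.CvHull

/-!
# The vanishing of the local cohomology from `Ext^i(b_* Λ, M) = 0`
-/

set_option autoImplicit false
universe u

open CategoryTheory CategoryTheory.Limits CategoryTheory.Abelian AlgebraicGeometry Opposite

namespace K198.CvExt

open Groth.Agent Groth.Agent.Etrest.ModAb Groth.Agent.EtDual.K336

section

variable {Λ : Type (u + 1)} [CommRing Λ] {X U Z : Scheme.{u}}

theorem isZero_HY (j : U ⟶ X) [IsOpenImmersion j] [EtCoh.BCCont j] (b : Z ⟶ X) [IsClosedImmersion b]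
    (hr : Set.range j = (Set.range b)ᶜ) (P : EtModW.Mod Λ X) (e0 : Nonempty (ExtPP.P' Λ b ≅ P))
    (M : EtModW.Mod Λ X) (i : ℕ) (h : Subsingleton (Ext.{u + 1} P M i)) :
    IsZero ((EtDual.HY j i).obj ((ab Λ X).obj M)) := by
  obtain ⟨e0⟩ := e0
  obtain ⟨e⟩ := ExtPP.nonempty_HY j b hr M i
  have h2 : Subsingleton (Ext.{u + 1} (ExtPP.P' Λ b) M i) := by
    refine subsingleton_of_forall_eq 0 fun x => ?_
    have h3 : (Ext.mk₀ e0.inv).comp x (zero_add i) = 0 := Subsingleton.elim _ _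
    have h4 : (Ext.mk₀ e0.hom).comp ((Ext.mk₀ e0.inv).comp x (zero_add i)) (zero_add i) = x := by
      rw [Ext.mk₀_comp_mk₀_assoc, Iso.hom_inv_id, Ext.mk₀_id_comp]
    rw [← h4, h3, Ext.comp_zero]
  have h1 : Subsingleton ((EtDual.HY j i).obj ((ab Λ X).obj M) : Type (u + 1)) :=
    e.toEquiv.symm.subsingleton
  exact AddCommGrpCat.isZero_of_subsingleton _

end

section

attribute [local instance 5000] CategoryTheory.Abelian.toPreadditive
  CategoryTheory.Preadditive.preadditiveHasZeroMorphisms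

open Groth.Agent.EtDual.K336.StrictS Groth.Agent.EtDual.K336.GlobS Groth.Agent.Etdl.H434.Defs

/-- The local cohomology at the closed point of `Spec K[[x_1, …, x_c]]`. -/
theorem isZero_locCoh (m : ℕ) [NeZero m] (c : ℕ) (K : Type u) [Field K] [IsAlgClosed K] [CharZero K]
    (F : EtModW.Mod (Lam.{u} m) (SP c K)) (i : ℕ)
    (h : Subsingleton (Ext.{u + 1} (PP (MvPowerSeries (Fin c) K) (Lam.{u} m)) F i)) :
    IsZero ((EtDual.locCoh (FEt.puncturedSpec (MvPowerSeries (Fin c) K)).ι i).obj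
      ((ab (Lam.{u} m) (SP c K)).obj F)) := by
  have := isClosedImmersion_ip (A := MvPowerSeries (Fin c) K)
  refine CvHull.isZero_locCoh (ip (MvPowerSeries (Fin c) K)) _ ?_ _ i ?_
  · rw [K584.PtSP.range_punct]
    exact isCompl_compl
  · exact isZero_HY (FEt.puncturedSpec (MvPowerSeries (Fin c) K)).ι
      (ip (MvPowerSeries (Fin c) K)) (K584.PtSP.range_punct _) _ nonempty_P' F i h

end

end K198.CvExt
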